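import Cfsg.Agent.CosetEnum.HeK.Chain31

set_option autoImplicit false
set_option maxRecDepth 100000
set_option Elab.async false

/-! Order bound from the enumeration on 49980 cosets. -/

namespace CfsgLib.CosetEnum.HeK

theorem full : B124 = 2 ^ (enum.n * enum.L.length) - 1 := by decide +kernel

theorem valid_0 : allR (validEntry 49980 7 tb id) 12 0 = true := by decide +kernel

theorem valid_1 : allR (validEntry 49980 7 tb id) 12 4096 = true := by decide +kernel

theorem valid_2 : allR (validEntry 49980 7 tb id) 12 8192 = true := by decide +kernel

theorem valid_3 : allR (validEntry 49980 7 tb id) 12 12288 = true := by decide +kernel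

theorem valid_4 : allR (validEntry 49980 7 tb id) 12 16384 = true := by decide +kernel

theorem valid_5 : allR (validEntry 49980 7 tb id) 12 20480 = true := by decide +kernel

theorem valid_6 : allR (validEntry 49980 7 tb id) 12 24576 = true := by decide +kernel

theorem valid_7 : allR (validEntry 49980 7 tb id) 12 28672 = true := by decide +kernel

theorem valid_8 : allR (validEntry 49980 7 tb id) 12 32768 = true := by decide +kernel

theorem valid_9 : allR (validEntry 49980 7 tb id) 12 36864 = true := by decide +kernel

theorem valid_10 : allR (validEntry 49980 7 tb id) 12 40960 = true := by decide +kernel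

theorem valid_11 : allR (validEntry 49980 7 tb id) 12 45056 = true := by decide +kernel

theorem valid_12 : allR (validEntry 49980 7 tb id) 12 49152 = true := by decide +kernel

theorem valid_13 : allR (validEntry 49980 7 tb id) 12 53248 = true := by decide +kernel

theorem valid_14 : allR (validEntry 49980 7 tb id) 12 57344 = true := by decide +kernel

theorem valid_15 : allR (validEntry 49980 7 tb id) 12 61440 = true := by decide +kernel

theorem valid : allR (validEntry 49980 7 tb id) 16 0 = true :=
  (allR_join (d := 15) (lo := 0) (hi := 32768) (allR_join (d := 14) (lo := 0) (hi := 16384) (allR_join (d := 13) (lo := 0) (hi := 8192) (allR_join (d := 12) (lo := 0) (hi := 4096) valid_0 (by decide +kernel) valid_1) (by decide +kernel) (allR_join (d := 12) (lo := 8192) (hi := 12288) valid_2 (by decide +kernel) valid_3)) (by decide +kernel) (allR_join (d := 13) (lo := 16384) (hi := 24576) (allR_join (d := 12) (lo := 16384) (hi := 20480) valid_4 (by decide +kernel) valid_5) (by decide +kernel) (allR_join (d := 12) (lo := 24576) (hi := 28672) valid_6 (by decide +kernel) valid_7))) (by decide +kernel) (allR_join (d := 14) (lo := 32768) (hi :=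 49152) (allR_join (d := 13) (lo := 32768) (hi := 40960) (allR_join (d := 12) (lo := 32768) (hi := 36864) valid_8 (by decide +kernel) valid_9) (by decide +kernel) (allR_join (d := 12) (lo := 40960) (hi := 45056) valid_10 (by decide +kernel) valid_11)) (by decide +kernel) (allR_join (d := 13) (lo := 49152) (hi := 57344) (allR_join (d := 12) (lo := 49152) (hi := 53248) valid_12 (by decide +kernel) valid_13) (by decide +kernel) (allR_join (d := 12) (lo := 57344) (hi := 61440) valid_14 (by decide +kernel) valid_15))))

theorem bound (m : ℕ) (h : Finite (CfsgLib.CosetEnum.He.setup.letSub enum.L') ∧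
    Nat.card (CfsgLib.CosetEnum.He.setup.letSub enum.L') ≤ m) :
    Finite (CfsgLib.CosetEnum.He.setup.letSub enum.L) ∧
      Nat.card (CfsgLib.CosetEnum.He.setup.letSub enum.L) ≤ 49980 * m :=
  enum.bound (d := 16) (B := B124) (by decide +kernel) (by decide +kernel) (by decide +kernel) good124 valid full h.1 h.2

end CfsgLib.CosetEnum.HeK
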